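import Mathlib
import Cfsg.Prelude.Def_GeometricClasses
import Cfsg.Prelude.Def_LieClassical

/-! Project SU4 (helper50), piece Q3MON: the Pauli group `4 ∘ 2^{1+4}` of the standard frame of
`F^4` (definitions shared by the sub-pieces). -/

set_option autoImplicit false

namespace Cfsg.Agent.Lib.Helper50.SU4Q3Def

open Matrix Cfsg.Geo

variable {F : Type*} [Field F]

/-- The generators of the two-qubit Pauli group: the scalar `ι`, `Z₁`, `Z₂`, `X₁`, `X₂`. -/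
def su4PauliGens (ι : F) : Set (GL (Fin 4) F) :=
  {x | x.1 = ι • (1 : Matrix (Fin 4) (Fin 4) F) ∨
    x.1 = Matrix.diagonal ![1, 1, -1, -1] ∨
    x.1 = Matrix.diagonal ![1, -1, 1, -1] ∨
    x.1 = !![0, 0, 1, 0; 0, 0, 0, 1; 1, 0, 0, 0; 0, 1, 0, 0] ∨
    x.1 = !![0, 1, 0, 0; 1, 0, 0, 0; 0, 0, 0, 1; 0, 0, 1, 0]}

/-- The two-qubit Pauli group with scalars `⟨ι⟩`. -/
def su4Pauli (ι : F) : Subgroup (GL (Fin 4) F) := Subgroup.closure (su4PauliGens ι)

end Cfsg.Agent.Lib.Helper50.SU4Q3Def
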